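import Groth.Agent.SecSmooth27.Coord
import Groth.Agent.NeutralOpen27.Points
import Groth.Agent.GrpScheme.Dimension
import Mathlib

/-!
# Group schemes with smooth fibres of locally constant dimension over a reduced base
-/

set_option autoImplicit false
set_option backward.isDefEq.respectTransparency false

universe u

open CategoryTheory AlgebraicGeometry Limits MonoidalCategory CartesianMonoidalCategory MonObj GrpObj
open TopologicalSpace Topology

namespace Groth.Agent.SecSmooth27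

open NeutralOpen27

variable {S : Scheme.{u}} (G : Over S) [GrpObj G] [LocallyOfFiniteType G.hom]

lemma ringKrullDim_fiberStalk_unit (x : G.left) (hx : unitSec G (G.hom x) = x) :
    ringKrullDim (CInt.fiberStalk G.hom x) = topologicalKrullDim ↥(G.hom.base ⁻¹' {G.hom x}) := by
  let t := G.hom x
  let F := fib G t
  have : LocallyOfFiniteType F.hom :=
    inferInstanceAs (LocallyOfFiniteType (pullback.snd G.hom (S.fromSpecResidueField t)))
  have h0 : G.hom.asFiber x = GrpScheme.IdComponent.e₀ (K := S.residueField t) F := by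
    refine fibι_injective G t ?_
    rw [fibι_unit, hx]
    exact G.hom.fiberι_asFiber x
  have hcl : IsClosed ({GrpScheme.IdComponent.e₀ (K := S.residueField t) F} : Set F.left) := by
    have := GrpArtin.Descend.isClosedImmersion_unit (K := S.residueField t) F
    convert (η[F].left).isClosedEmbedding.isClosed_range
    ext z
    simp only [Set.mem_singleton_iff, Set.mem_range]
    exact ⟨fun h => ⟨_, h.symm⟩, fun ⟨w, hw⟩ => hw ▸ congrArg η[F].left
      (Subsingleton.elim (α := PrimeSpectrum (S.residueField t)) w _)⟩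
  show ringKrullDim ((G.hom.fiber t).presheaf.stalk (G.hom.asFiber x)) = _
  rw [h0]
  refine (ringKrullDim_stalk_eq_coheight (X := F.left) _).trans ?_
  rw [GrpScheme.Dimension.coheight_eq_topologicalKrullDim (K := S.residueField t) F _ hcl]
  exact (G.hom.fiberHomeo t).isHomeomorph.topologicalKrullDim_eq

omit [LocallyOfFiniteType G.hom] in
lemma isRegularLocalRing_fiberStalk (hfib : ∀ s : S, Smooth (pullback.snd G.hom (S.fromSpecResidueField s)))
    (x : G.left) : IsRegularLocalRing (CInt.fiberStalk G.hom x) :=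
  @CurveDVR.isRegularLocalRing_stalk (S.residueField (G.hom x)) _ (G.hom.fiber (G.hom x))
    (G.hom.fiberToSpecResidueField (G.hom x)) (hfib _) (G.hom.asFiber x)

/-- Smoothness near the unit over a reduced base. -/
theorem exists_smooth_unit [AlgebraicGeometry.IsReduced S]
    (hfib : ∀ s : S, Smooth (pullback.snd G.hom (S.fromSpecResidueField s)))
    (hdim : IsLocallyConstant (fun s : S => topologicalKrullDim ↥(G.hom.base ⁻¹' {s}))) :
    ∃ U : G.left.Opens, Smooth (U.ι ≫ G.hom) ∧ ∀ t, unitSec G t ∈ U := by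
  let e := unitSec G
  suffices key : ∀ s : S, ∃ U : G.left.Opens, e s ∈ U ∧ Smooth (U.ι ≫ G.hom) by
    choose U hU hUs using key
    refine ⟨⨆ s, U s, ?_, fun t => Opens.mem_iSup.mpr ⟨t, hU t⟩⟩
    have hcov : ⨆ s : S, (⨆ s, U s).ι ⁻¹ᵁ U s = ⊤ := by
      refine top_le_iff.mp fun x _ => ?_
      obtain ⟨s, hs⟩ := Opens.mem_iSup.mp x.2
      exact Opens.mem_iSup.mpr ⟨s, hs⟩
    refine (IsZariskiLocalAtSource.iff_of_iSup_eq_top (P := @Smooth) _ hcov).mpr fun s => ?_
    have hr : Set.range (((⨆ s, U s).ι ⁻¹ᵁ U s).ι ≫ (⨆ s, U s).ι) ⊆ Set.range (U s).ι := by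
      rw [Scheme.Opens.range_ι]
      rintro _ ⟨w, rfl⟩
      exact w.2
    let k := IsOpenImmersion.lift (U s).ι (((⨆ s, U s).ι ⁻¹ᵁ U s).ι ≫ (⨆ s, U s).ι) hr
    have hk : k ≫ (U s).ι = ((⨆ s, U s).ι ⁻¹ᵁ U s).ι ≫ (⨆ s, U s).ι := IsOpenImmersion.lift_fac _ _ hr
    have : IsOpenImmersion (k ≫ (U s).ι) := by rw [hk]; infer_instance
    have : IsOpenImmersion k := IsOpenImmersion.of_comp k (U s).ι
    have := hUs s
    rw [← reassoc_of% hk]
    infer_instance
  intro s
  obtain ⟨V₁, hV₁, hsV₁, -⟩ := exists_isAffineOpen_mem_and_subset (x := s) (U := ⊤) trivial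
  obtain ⟨U₁, hU₁, heU₁, hU₁le⟩ := exists_isAffineOpen_mem_and_subset (x := e s) (U := G.hom ⁻¹ᵁ V₁)
    (show G.hom (e s) ∈ V₁ by rw [hom_unitSec]; exact hsV₁)
  obtain ⟨g, hg, hsg⟩ := hV₁.exists_basicOpen_le (V := e ⁻¹ᵁ U₁) ⟨s, heU₁⟩ hsV₁
  let V := S.basicOpen g
  let U' := G.left.basicOpen (G.hom.appLE V₁ U₁ hU₁le g)
  have hU'eq : U' = U₁ ⊓ G.hom ⁻¹ᵁ V := by
    simp only [U', V, Scheme.Hom.appLE, CommRingCat.comp_apply, Scheme.basicOpen_res, Scheme.preimage_basicOpen]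
  have hle : U' ≤ G.hom ⁻¹ᵁ V := hU'eq.le.trans inf_le_right
  have heU' : V ≤ e ⁻¹ᵁ U' := fun t ht => by
    show e t ∈ U'
    rw [hU'eq]
    exact ⟨hg ht, by show G.hom (e t) ∈ V; rw [hom_unitSec]; exact ht⟩
  have hV : IsAffineOpen V := hV₁.basicOpen g
  have hU' : IsAffineOpen U' := hU₁.basicOpen _
  let R := Γ(S, V)
  let A := Γ(G.left, U')
  let φ : R ⟶ A := G.hom.appLE V U' hle
  let : Algebra R A := φ.hom.toAlgebra
  let εr : A ⟶ R := e.appLE U' V heU'
  have hεφ : φ ≫ εr = 𝟙 R := by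
    show G.hom.appLE V U' hle ≫ e.appLE U' V heU' = _
    rw [Scheme.Hom.appLE_comp_appLE]
    have : e ≫ G.hom = 𝟙 S := unitSec_hom G
    generalize_proofs hp
    revert hp
    rw [this]
    intro hp
    simp [Scheme.Hom.appLE]
    exact S.presheaf.map_id _
  let ε : A →ₐ[R] R := { εr.hom with commutes' := fun r => congrArg (fun k => (CommRingCat.Hom.hom k) r) hεφ }
  have : Algebra.FiniteType R A := RingHom.finiteType_algebraMap.mp
    (HasRingHomProperty.appLE (P := @LocallyOfFiniteType) G.hom inferInstance ⟨V, hV⟩ ⟨U', hU'⟩ hle)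
  let κ : Spec A ⟶ G.left := hU'.fromSpec
  let ν : Spec R ⟶ S := hV.fromSpec
  have hsq : κ ≫ G.hom = Spec.map φ ≫ ν := (hV.SpecMap_appLE_fromSpec G.hom hU' hle).symm
  have hκe : Spec.map εr ≫ κ = ν ≫ e := hU'.SpecMap_appLE_fromSpec e hV heU'
  have hpt : ∀ t : ↥(Spec R), κ (Spec.map εr t) = e (ν t) := fun t => by
    rw [← Scheme.Hom.comp_apply, hκe, Scheme.Hom.comp_apply]
  have hequiv : ∀ t : ↥(Spec R), Nonempty (CInt.fiberStalk G.hom (κ (Spec.map εr t)) ≃+*
      CInt.fiberStalk (Spec.map φ) (Spec.map εr t)) := fun t => by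
    obtain ⟨a⟩ := FlatMor.FibreStalk.exists_fibre_stalk_equiv G.hom (κ (Spec.map εr t))
    obtain ⟨b⟩ := exists_quotient_equiv_of_isOpenImmersion κ ν G.hom (Spec.map φ) hsq (Spec.map εr t)
    obtain ⟨c⟩ := FlatMor.FibreStalk.exists_fibre_stalk_equiv (Spec.map φ) (Spec.map εr t)
    exact ⟨a.symm.trans (b.trans c)⟩
  have hd : ∀ t : ↥(Spec R), ringKrullDim (CInt.fiberStalk (Spec.map φ) (Spec.map εr t)) =
      topologicalKrullDim ↥(G.hom.base ⁻¹' {ν t}) := fun t => by
    obtain ⟨q⟩ := hequiv t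
    rw [← ringKrullDim_eq_of_ringEquiv q, hpt, ringKrullDim_fiberStalk_unit G _ (by rw [hom_unitSec]),
      hom_unitSec]
  obtain ⟨s', hs'⟩ : ∃ s' : ↥(Spec R), ν s' = s := by
    have : s ∈ Set.range ν := by rw [hV.range_fromSpec]; exact hsg
    exact this
  obtain ⟨q⟩ := hequiv s'
  have hreg0 := isRegularLocalRing_fiberStalk G hfib (κ (Spec.map εr s'))
  have hreg := @IsRegularLocalRing.of_ringEquiv _ _ hreg0 _ _ q
  have hdim0 := hreg.spanFinrank_maximalIdeal
  let Vd : (Spec R).Opens := ν ⁻¹ᵁ ⟨_, hdim.isOpen_fiber (topologicalKrullDim ↥(G.hom.base ⁻¹' {s}))⟩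
  obtain ⟨W, hW, hWs⟩ := exists_smooth_nhd_Spec ε s' _ hreg hdim0.symm
    ⟨Vd, (show topologicalKrullDim ↥(G.hom.base ⁻¹' {ν s'}) = _ by rw [hs']), fun t ht => by
      refine le_of_eq (hdim0.trans ?_)
      show ringKrullDim (CInt.fiberStalk (Spec.map φ) (Spec.map εr s')) =
        ringKrullDim (CInt.fiberStalk (Spec.map φ) (Spec.map εr t))
      rw [hd, hd, hs']
      exact ht.symm⟩
  refine ⟨κ ''ᵁ W, ⟨Spec.map εr s', hW, ?_⟩, ?_⟩
  · exact (hpt s').trans (congrArg e hs')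
  · have hsm : Smooth ((W.ι ≫ Spec.map φ) ≫ ν) := by
      have : Smooth (W.ι ≫ Spec.map φ) := hWs
      infer_instance
    rw [Category.assoc, ← hsq, ← Scheme.Hom.isoImage_hom_ι_assoc κ W] at hsm
    have : Smooth ((κ.isoImage W).inv ≫ (κ.isoImage W).hom ≫ (κ ''ᵁ W).ι ≫ G.hom) := inferInstance
    rwa [Iso.inv_hom_id_assoc] at this

end Groth.Agent.SecSmooth27
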