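import Groth.Agent.FlatMor.FibreStalk
import Groth.Prelude.Def_CInt
import Mathlib

/-!
# Local rings of fibres: chains, transfer along open immersions, generators
-/

set_option autoImplicit false

universe u

open CategoryTheory AlgebraicGeometry Limits IsLocalRing Order Topology

namespace Groth.Agent.SecSmooth27

section Chains

variable {X S : Scheme.{u}} (f : X ⟶ S)

lemma strictMono_fiberι (t : S) : StrictMono (fun w : ↥(f.fiber t) => f.fiberι t w) := fun a c hac => by
  obtain ⟨h1, h2⟩ := lt_iff_le_not_ge.mp hac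
  exact lt_iff_le_not_ge.mpr ⟨Scheme.le_iff_specializes.mpr
    ((Scheme.le_iff_specializes.mp h1).map (f.fiberι t).continuous), fun h => h2
      (Scheme.le_iff_specializes.mpr ((f.fiberι t).isEmbedding.isInducing.specializes_iff.mp
        (Scheme.le_iff_specializes.mp h)))⟩

/-- A chain of generizations of `x` in its fibre, of length at most the dimension of the fibre at `x`. -/
lemma exists_chain (x : X) {d : ℕ} (hd : (d : WithBot ℕ∞) ≤ ringKrullDim (CInt.fiberStalk f x)) :
    ∃ l : LTSeries X, l.head = x ∧ l.length = d ∧ ∀ i, f (l i) = f x := by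
  have hd' : (d : WithBot ℕ∞) ≤ ringKrullDim ((f.fiber (f x)).presheaf.stalk (f.asFiber x)) := hd
  rw [ringKrullDim_stalk_eq_coheight] at hd'
  obtain ⟨l, hl, hlen⟩ := exists_series_of_le_coheight (f.asFiber x) (WithBot.coe_le_coe.mp hd')
  refine ⟨l.map _ (strictMono_fiberι f (f x)), ?_, hlen, fun i => (f.range_fiberι (f x)).le ⟨l i, rfl⟩⟩
  rw [LTSeries.head_map, hl]
  exact f.fiberι_asFiber x

/-- Chains of generizations in a fibre are at most as long as the dimension of the fibre. -/
lemma length_le (l : LTSeries X) (hl : ∀ i, f (l i) = f l.head) :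
    (l.length : WithBot ℕ∞) ≤ ringKrullDim (CInt.fiberStalk f l.head) := by
  let t := f l.head
  have h : ∀ i, ∃ w : ↥(f.fiber t), f.fiberι t w = l i := fun i =>
    (f.range_fiberι t).ge (show l i ∈ f ⁻¹' {t} from hl i)
  choose w hw using h
  let L : LTSeries ↥(f.fiber t) := LTSeries.mk l.length w fun a b hab => by
    obtain ⟨h1, h2⟩ := lt_iff_le_not_ge.mp (l.strictMono hab)
    rw [← hw a, ← hw b] at h1 h2
    exact lt_iff_le_not_ge.mpr ⟨Scheme.le_iff_specializes.mpr
      ((f.fiberι t).isEmbedding.isInducing.specializes_iff.mp (Scheme.le_iff_specializes.mp h1)),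
      fun h => h2 (Scheme.le_iff_specializes.mpr
        ((Scheme.le_iff_specializes.mp h).map (f.fiberι t).continuous))⟩
  have hhead : L.head = f.asFiber l.head := by
    refine (f.fiberι t).isEmbedding.injective ?_
    rw [f.fiberι_asFiber]
    exact hw 0
  show _ ≤ ringKrullDim ((f.fiber (f l.head)).presheaf.stalk (f.asFiber l.head))
  rw [ringKrullDim_stalk_eq_coheight, ← hhead]
  exact WithBot.coe_le_coe.mpr (length_le_coheight_head (p := L))

lemma isNoetherianRing_fiberStalk [LocallyOfFiniteType f] (x : X) :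
    IsNoetherianRing (CInt.fiberStalk f x) := by
  have : LocallyOfFiniteType (f.fiberToSpecResidueField (f x)) :=
    inferInstanceAs (LocallyOfFiniteType (pullback.snd f (S.fromSpecResidueField (f x))))
  have := LocallyOfFiniteType.isLocallyNoetherian (f.fiberToSpecResidueField (f x))
  exact inferInstanceAs (IsNoetherianRing ((f.fiber (f x)).presheaf.stalk (f.asFiber x)))

end Chains

/-- Local rings of fibres are unchanged by open immersions of source and target. -/
theorem exists_quotient_equiv_of_isOpenImmersion {X X' S S' : Scheme.{u}} (κ : X' ⟶ X) (ν : S' ⟶ S)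
    [IsOpenImmersion κ] [IsOpenImmersion ν] (f : X ⟶ S) (f' : X' ⟶ S') (h : κ ≫ f = f' ≫ ν) (x : X') :
    Nonempty ((X.presheaf.stalk (κ x) ⧸ (maximalIdeal (S.presheaf.stalk (f (κ x)))).map (f.stalkMap (κ x)).hom) ≃+*
      (X'.presheaf.stalk x ⧸ (maximalIdeal (S'.presheaf.stalk (f' x))).map (f'.stalkMap x).hom)) := by
  have he : f (κ x) = ν (f' x) := by
    rw [← Scheme.Hom.comp_apply, ← Scheme.Hom.comp_apply, h]
  let c := S.presheaf.stalkSpecializes (specializes_of_eq he.symm)
  have hc : f.stalkMap (κ x) ≫ κ.stalkMap x =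
      (S.presheaf.stalkSpecializes (specializes_of_eq he.symm)) ≫ ν.stalkMap (f' x) ≫ f'.stalkMap x := by
    rw [← Scheme.Hom.stalkMap_comp, Scheme.Hom.stalkMap_congr_hom _ _ h x, Scheme.Hom.stalkMap_comp]
    rfl
  have : IsIso c := by
    have : c = (S.presheaf.stalkCongr (Inseparable.of_eq he)).hom := rfl
    rw [this]; infer_instance
  let e := (asIso (κ.stalkMap x)).commRingCatIsoToRingEquiv
  let e' := (asIso (c ≫ ν.stalkMap (f' x))).commRingCatIsoToRingEquiv
  refine ⟨Ideal.quotientEquiv _ _ e ?_⟩
  have h1 : (κ.stalkMap x).hom.comp (f.stalkMap (κ x)).hom =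
      (f'.stalkMap x).hom.comp (e' : _ →+* _) := by
    rw [← CommRingCat.hom_comp, hc, ← Category.assoc]
    rfl
  show _ = Ideal.map (κ.stalkMap x).hom ((maximalIdeal (S.presheaf.stalk (f (κ x)))).map (f.stalkMap (κ x)).hom)
  rw [Ideal.map_map, h1, ← Ideal.map_map]
  congr 1
  exact (map_ringEquiv_maximalIdeal e').symm

/-- Transport of the image of a maximal ideal along a commutative square. -/
theorem map_map_eq {S₀ T₀ S₁ T₁ : Type u} [CommRing S₀] [CommRing T₀] [CommRing S₁] [CommRing T₁]
    [IsLocalRing S₀] [IsLocalRing S₁] (f : S₀ →+* T₀) (g : S₁ →+* T₁) (eS : S₀ ≃+* S₁) (eT : T₀ ≃+* T₁)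
    (h : ∀ a, eT (f a) = g (eS a)) :
    (maximalIdeal S₁).map g = ((maximalIdeal S₀).map f).map (eT : T₀ →+* T₁) := by
  rw [← map_maximalIdeal_of_surjective (eS : S₀ →+* S₁) eS.surjective, Ideal.map_map, Ideal.map_map]
  congr 1
  exact RingHom.ext fun a => (h a).symm

/-- The local ring of a fibre of `Spec A → Spec R`. -/
theorem exists_quotient_equiv_Spec {R A : CommRingCat.{u}} (φ : R ⟶ A) (x : PrimeSpectrum A) :
    Nonempty (((Spec A).presheaf.stalk x ⧸
        (maximalIdeal ((Spec R).presheaf.stalk (Spec.map φ x))).map ((Spec.map φ).stalkMap x).hom) ≃+*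
      (Localization.AtPrime x.asIdeal ⧸
        (x.asIdeal.comap φ.hom).map ((algebraMap A (Localization.AtPrime x.asIdeal)).comp φ.hom))) := by
  let sR : (Spec R).presheaf.stalk (Spec.map φ x) ≃+* Localization.AtPrime (x.asIdeal.comap φ.hom) := (Spec.stalkIso R (PrimeSpectrum.comap φ.hom x)).commRingCatIsoToRingEquiv
  let sA : (Spec A).presheaf.stalk x ≃+* Localization.AtPrime x.asIdeal := (Spec.stalkIso A x).commRingCatIsoToRingEquiv
  let lrh := Localization.localRingHom (x.asIdeal.comap φ.hom) x.asIdeal φ.hom rfl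
  have h : ∀ a, sA (((Spec.map φ).stalkMap x).hom a) = lrh (sR a) := fun a => by
    have h' : sA.symm (lrh (sR a)) = ((Spec.map φ).stalkMap x).hom a :=
      congrArg (fun k => (CommRingCat.Hom.hom k) a) (Scheme.localRingHom_comp_stalkIso φ x)
    rw [← h', RingEquiv.apply_symm_apply]
  refine ⟨Ideal.quotientEquiv _ _ sA ?_⟩
  refine Eq.trans ?_ (map_map_eq _ lrh sR sA h)
  rw [← Localization.AtPrime.map_eq_maximalIdeal, Ideal.map_map]
  congr 1
  ext r
  exact (Localization.localRingHom_to_map (x.asIdeal.comap φ.hom) x.asIdeal φ.hom rfl r).symm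

/-- Generators of the maximal ideal of a regular local ring chosen inside a given generating set. -/
theorem exists_finset_span {L : Type u} [CommRing L] [IsRegularLocalRing L] (T : Set L)
    (hT : Ideal.span T = maximalIdeal L) {d : ℕ} (hd : ringKrullDim L = d) :
    ∃ s : Finset L, (s : Set L) ⊆ T ∧ s.card ≤ d ∧ Ideal.span (s : Set L) = maximalIdeal L := by
  classical
  let T' : Set (maximalIdeal L) := Subtype.val ⁻¹' T
  have hsub : Subtype.val '' T' = T := by
    rw [Set.image_preimage_eq_inter_range, Subtype.range_coe, Set.inter_eq_left]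
    exact hT ▸ Ideal.subset_span
  have hT' : Submodule.span L T' = ⊤ := by
    refine Submodule.map_injective_of_injective (Submodule.injective_subtype _) ?_
    rw [Submodule.map_span, Submodule.map_top, Submodule.range_subtype]
    exact (congrArg (Submodule.span L) hsub).trans hT
  rw [← CotangentSpace.span_image_eq_top_iff] at hT'
  obtain ⟨b, hbT, hbspan, hbli⟩ := exists_linearIndependent (ResidueField L) ((maximalIdeal L).toCotangent '' T')
  rw [hT'] at hbspan
  have : Finite b := hbli.finite
  have : Fintype b := Fintype.ofFinite b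
  have hbcard : b.toFinset.card ≤ d := by
    have h := (IsRegularLocalRing.iff_finrank_cotangentSpace L).mp ‹_›
    rw [hd] at h
    have h' : Module.finrank (ResidueField L) (CotangentSpace L) = d := by exact_mod_cast h
    rw [Set.toFinset_card, ← h']
    exact hbli.fintype_card_le_finrank
  have hc : ∀ v ∈ b, ∃ a ∈ T', (maximalIdeal L).toCotangent a = v := fun v hv => hbT hv
  choose! g hgT hg using hc
  let s' : Finset (maximalIdeal L) := b.toFinset.image g
  refine ⟨s'.image Subtype.val, ?_, Finset.card_image_le.trans (Finset.card_image_le.trans hbcard), ?_⟩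
  · intro a ha
    simp only [s', Finset.coe_image, Set.mem_image, Set.coe_toFinset] at ha
    obtain ⟨a', ⟨v, hv, rfl⟩, rfl⟩ := ha
    exact hgT v hv
  · have h : Submodule.span L (s' : Set (maximalIdeal L)) = ⊤ := by
      rw [← CotangentSpace.span_image_eq_top_iff, eq_top_iff, ← hbspan]
      refine Submodule.span_mono fun v hv => ⟨g v, ?_, hg v hv⟩
      simp only [s', Finset.coe_image, Set.coe_toFinset]
      exact ⟨v, hv, rfl⟩
    have h' := congrArg (Submodule.map (maximalIdeal L).subtype) h
    rw [Submodule.map_span, Submodule.map_top, Submodule.range_subtype] at h'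
    rw [Finset.coe_image]
    exact h'

end Groth.Agent.SecSmooth27
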