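import Groth.Agent.S15351
import Groth.Agent.SecComp.Nbhd
import Groth.Agent.CurveCoh.Integral
import Groth.Agent.CurveDVR.Stalk
import Groth.Agent.GrpScheme.Homogeneous
import Groth.Agent.RegLoc.Basic
import Mathlib

/-!
# A closed subscheme of a smooth scheme with equal fibre dimensions along a section
-/

set_option autoImplicit false

universe u

open CategoryTheory AlgebraicGeometry Limits TopologicalSpace Topology

namespace Groth.Agent.SecSmooth27

/-- In a fibre of a quasi-compact smooth morphism every connected component has a generic point. -/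
lemma exists_generic_component {Y S : Scheme.{u}} (f : Y ⟶ S) [Smooth f] [QuasiCompact f] (t : S)
    (w : ↥(f.fiber t)) : ∃ ξ : ↥(f.fiber t), ∀ z ∈ connectedComponent w, ξ ⤳ z := by
  let F := f.fiber t
  let q := f.fiberToSpecResidueField t
  have : Smooth q := inferInstanceAs (Smooth (pullback.snd f (S.fromSpecResidueField t)))
  have : QuasiCompact q := inferInstanceAs (QuasiCompact (pullback.snd f (S.fromSpecResidueField t)))
  have := LocallyOfFiniteType.isLocallyNoetherian q
  have : CompactSpace F := QuasiCompact.compactSpace_of_compactSpace q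
  have : IsNoetherian F := {}
  have := SecComp.locallyConnectedSpace_fiber f t
  let C : F.Opens := ⟨connectedComponent w, isOpen_connectedComponent⟩
  have : IsNoetherian (C : Scheme.{u}) := by
    have : CompactSpace ↥(C : Scheme.{u}) := isCompact_iff_compactSpace.mp isClosed_connectedComponent.isCompact
    have : IsLocallyNoetherian (C : Scheme.{u}) := LocallyOfFiniteType.isLocallyNoetherian (C.ι ≫ q)
    exact {}
  have : ConnectedSpace ↥(C : Scheme.{u}) := Subtype.connectedSpace isConnected_connectedComponent
  have : IrreducibleSpace ↥(C : Scheme.{u}) := CurveCoh.irreducibleSpace_of_domain_stalks _ fun x => by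
    have := @CurveDVR.isRegularLocalRing_stalk (S.residueField t) _ (C : Scheme.{u}) (C.ι ≫ q) inferInstance x
    exact RegLoc.isDomain _
  refine ⟨C.ι (genericPoint ↥(C : Scheme.{u})), fun z hz => ?_⟩
  have : QuasiSober ↥(C : Scheme.{u}) := inferInstance
  exact (genericPoint_specializes (α := ↥(C : Scheme.{u})) ⟨z, hz⟩).map C.ι.continuous

/-- If a closed subscheme `X` of a smooth affine-like `Y` over a reduced base has, at each point of a
section, chains of generizations in the fibre at least as long as those of `Y`, then near the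
section it is open in `Y`, in particular smooth over the base. -/
theorem exists_smooth_nhd {S X Y : Scheme.{u}} [AlgebraicGeometry.IsReduced S] [QuasiSeparatedSpace Y]
    (fY : Y ⟶ S) [Smooth fY] [QuasiCompact fY] (j : X ⟶ Y) [IsClosedImmersion j]
    (σ : S ⟶ X) (hσ : σ ≫ j ≫ fY = 𝟙 S)
    (h : ∀ t : S, ∃ d : ℕ,
      (∃ l : LTSeries X, l.head = σ t ∧ l.length = d ∧ ∀ i, fY (j (l i)) = t) ∧
      (∀ l : LTSeries Y, l.head = j (σ t) → (∀ i, fY (l i) = t) → l.length ≤ d)) :
    ∃ W : X.Opens, (∀ t, σ t ∈ W) ∧ Smooth (W.ι ≫ j ≫ fY) := by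
  have hs : (σ ≫ j) ≫ fY = 𝟙 S := by rw [Category.assoc, hσ]
  let O : Y.Opens := ⟨MoreMor.sectionComponents fY (σ ≫ j), S15351.result fY (σ ≫ j) hs⟩
  have hO : (O : Set Y) ⊆ Set.range j := by
    intro y hy
    let t := fY y
    have hy' : y ∈ connectedComponentIn (fY ⁻¹' {t}) ((σ ≫ j) t) := hy
    obtain ⟨w, hw⟩ := (fY.range_fiberι t).ge (show (σ ≫ j) t ∈ fY ⁻¹' {t} by
      show fY ((σ ≫ j) t) = t
      rw [← Scheme.Hom.comp_apply, hs]; rfl)
    rw [← hw, SecComp.connectedComponentIn_fibre] at hy'
    obtain ⟨v, hv, hvy⟩ := hy'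
    obtain ⟨ξ, hξ⟩ := exists_generic_component fY t w
    obtain ⟨d, ⟨l, hl0, hld, hlt⟩, hY⟩ := h t
    have hmono : StrictMono (fun x : X => j x) := fun a c hac => by
      obtain ⟨h1, h2⟩ := lt_iff_le_not_ge.mp hac
      exact lt_iff_le_not_ge.mpr ⟨Scheme.le_iff_specializes.mpr
        ((Scheme.le_iff_specializes.mp h1).map j.continuous), fun h => h2
          (Scheme.le_iff_specializes.mpr (j.isClosedEmbedding.isEmbedding.isInducing.specializes_iff.mp
            (Scheme.le_iff_specializes.mp h)))⟩
    let L : LTSeries Y := l.map (fun x => j x) hmono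
    have hL0 : L.head = j (σ t) := by simp only [L, LTSeries.head_map, hl0]
    have hLt : ∀ i, fY (L i) = t := fun i => hlt i
    obtain ⟨z, hz⟩ := (fY.range_fiberι t).ge (show L.last ∈ fY ⁻¹' {t} from hLt _)
    have hzw : z ⤳ w := by
      rw [← (fY.fiberι t).isEmbedding.isInducing.specializes_iff, hz, hw]
      have : L.head ≤ L.last := L.head_le_last
      rw [hL0] at this
      exact Scheme.le_iff_specializes.mp this
    have hzC : z ∈ connectedComponent w := by
      have hc : _root_.IsPreconnected (closure {z}) := isPreconnected_singleton.closure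
      exact hc.subset_connectedComponent hzw.mem_closure (subset_closure rfl)
    have hξz : fY.fiberι t ξ ⤳ L.last := hz ▸ (hξ z hzC).map (fY.fiberι t).continuous
    have hξr : fY.fiberι t ξ ∈ Set.range j := by
      by_cases he : L.last < fY.fiberι t ξ
      · exfalso
        have hsn := hY (L.snoc (fY.fiberι t ξ) he) (by rw [RelSeries.head_snoc, hL0]) (fun i => by
          refine Fin.lastCases ?_ (fun k => ?_) i
          · show fY ((L.snoc (fY.fiberι t ξ) he).last) = t
            rw [RelSeries.last_snoc]
            exact (fY.range_fiberι t).le ⟨ξ, rfl⟩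
          · erw [RelSeries.snoc_castSucc]
            exact hLt k)
        simp only [RelSeries.snoc_length] at hsn
        have : L.length = d := hld
        omega
      · have hle : L.last ≤ fY.fiberι t ξ := Scheme.le_iff_specializes.mpr hξz
        have hge : fY.fiberι t ξ ≤ L.last := by
          by_contra hc
          exact he (lt_iff_le_not_ge.mpr ⟨hle, hc⟩)
        have heq : fY.fiberι t ξ = L.last :=
          ((Scheme.le_iff_specializes.mp hle).antisymm (Scheme.le_iff_specializes.mp hge)).eq
        rw [heq]
        exact ⟨l.last, (LTSeries.last_map l _ hmono).symm⟩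
    rw [← hvy]
    exact ((hξ v hv).map (fY.fiberι t).continuous).mem_closed j.isClosedEmbedding.isClosed_range hξr
  refine ⟨j ⁻¹ᵁ O, fun t => ?_, ?_⟩
  · show (σ ≫ j) t ∈ MoreMor.sectionComponents fY (σ ≫ j)
    have ht : fY ((σ ≫ j) t) = t := by rw [← Scheme.Hom.comp_apply, hs]; rfl
    show (σ ≫ j) t ∈ connectedComponentIn (fY ⁻¹' {fY ((σ ≫ j) t)}) ((σ ≫ j) (fY ((σ ≫ j) t)))
    rw [ht]
    exact mem_connectedComponentIn ht
  · have : AlgebraicGeometry.IsReduced (O : Scheme.{u}) := GrpScheme.Homogeneous.isReduced_of_smooth (O.ι ≫ fY)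
    have : IsClosedImmersion (j ∣_ O) := MorphismProperty.of_isPullback (isPullback_morphismRestrict j O).flip ‹_›
    have : Surjective (j ∣_ O) := ⟨fun y => by
      obtain ⟨x, hx⟩ := hO y.2
      refine ⟨⟨x, show j x ∈ O from hx ▸ y.2⟩, O.ι.injective ?_⟩
      show ((j ∣_ O) ≫ O.ι) _ = _
      rw [morphismRestrict_ι]
      exact hx⟩
    have : IsIso (j ∣_ O) := isIso_of_isClosedImmersion_of_surjective _
    rw [← morphismRestrict_ι_assoc]
    infer_instance

end Groth.Agent.SecSmooth27
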