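import Groth.Agent.SecSmooth27.Chain
import Groth.Agent.SecSmooth27.Stalk
import Mathlib

/-!
# Smoothness along a section over a reduced base with regular fibres of constant dimension
-/

set_option autoImplicit false

universe u

open CategoryTheory AlgebraicGeometry Limits IsLocalRing Order Topology TopologicalSpace

namespace Groth.Agent.SecSmooth27

/-- Chains of generizations lift along open immersions. -/
lemma exists_lift_chain {X' X : Scheme.{u}} (κ : X' ⟶ X) [IsOpenImmersion κ] (x : X') (l : LTSeries X)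
    (hl : l.head = κ x) : ∃ l' : LTSeries X', l'.head = x ∧ l'.length = l.length ∧
      ∀ i, ∃ k, κ (l' i) = l k := by
  have hr : ∀ i, ∃ y, κ y = l i := fun i => by
    have h : l.head ≤ l i := l.monotone (Fin.zero_le i)
    rw [hl] at h
    exact (Scheme.le_iff_specializes.mp h).mem_open κ.isOpenEmbedding.isOpen_range ⟨x, rfl⟩
  choose y hy using hr
  refine ⟨LTSeries.mk l.length y fun a b hab => ?_, κ.isOpenEmbedding.injective ((hy 0).trans hl), rfl,
    fun i => ⟨i, hy i⟩⟩
  obtain ⟨h1, h2⟩ := lt_iff_le_not_ge.mp (l.strictMono hab)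
  rw [← hy a, ← hy b] at h1 h2
  exact lt_iff_le_not_ge.mpr ⟨Scheme.le_iff_specializes.mpr
    (κ.isOpenEmbedding.isInducing.specializes_iff.mp (Scheme.le_iff_specializes.mp h1)),
    fun h => h2 (Scheme.le_iff_specializes.mpr ((Scheme.le_iff_specializes.mp h).map κ.continuous))⟩

section Coordinates

variable {R A : Type u} [CommRing R] [CommRing A] [Algebra R A] (ε : A →ₐ[R] R) (p : Ideal R) [p.IsPrime]

lemma comap_algebraMap_comap : (p.comap ε).comap (algebraMap R A) = p := by
  ext r; simp [Ideal.mem_comap]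

lemma mem_sup_of_mem {a : A} (ha : a ∈ p.comap ε) :
    a ∈ p.map (algebraMap R A) ⊔ RingHom.ker ε := by
  refine Submodule.mem_sup.mpr ⟨algebraMap R A (ε a), Ideal.mem_map_of_mem _ ha, a - algebraMap R A (ε a), ?_, by ring⟩
  simp [RingHom.mem_ker]

/-- Coordinates at a point of a section where the local ring of the fibre is regular. -/
lemma exists_coordinates {d : ℕ}
    (hreg : IsRegularLocalRing (Localization.AtPrime (p.comap ε) ⧸
      ((p.comap ε).comap (algebraMap R A)).map
        ((algebraMap A (Localization.AtPrime (p.comap ε))).comp (algebraMap R A))))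
    (hdim : ringKrullDim (Localization.AtPrime (p.comap ε) ⧸
      ((p.comap ε).comap (algebraMap R A)).map
        ((algebraMap A (Localization.AtPrime (p.comap ε))).comp (algebraMap R A))) = d) :
    ∃ (ι : Type u) (_ : Fintype ι) (x : ι → A), Fintype.card ι ≤ d ∧ (∀ i, ε (x i) = 0) ∧
      (p.map (algebraMap R A) ⊔ Ideal.span (Set.range x)).map (algebraMap A (Localization.AtPrime (p.comap ε))) =
        maximalIdeal (Localization.AtPrime (p.comap ε)) := by
  classical
  let P := p.comap ε
  let O := Localization.AtPrime P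
  let J : Ideal O := (P.comap (algebraMap R A)).map ((algebraMap A O).comp (algebraMap R A))
  let π : O →+* O ⧸ J := Ideal.Quotient.mk J
  have hJ : J = (p.map (algebraMap R A)).map (algebraMap A O) := by
    rw [Ideal.map_map]
    show (P.comap (algebraMap R A)).map _ = _
    rw [show P.comap (algebraMap R A) = p from comap_algebraMap_comap ε p]
  let T : Set (O ⧸ J) := (fun a => π (algebraMap A O a)) '' (RingHom.ker ε : Set A)
  have hmax : maximalIdeal (O ⧸ J) = (maximalIdeal O).map π :=
    (map_maximalIdeal_of_surjective π Ideal.Quotient.mk_surjective).symm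
  have hT : Ideal.span T = maximalIdeal (O ⧸ J) := by
    rw [hmax, ← Localization.AtPrime.map_eq_maximalIdeal, Ideal.map_map]
    refine le_antisymm (Ideal.span_le.mpr ?_) (Ideal.map_le_iff_le_comap.mpr fun a ha => ?_)
    · rintro _ ⟨a, ha, rfl⟩
      refine Ideal.mem_map_of_mem (π.comp (algebraMap A O)) ?_
      show ε a ∈ p
      rw [RingHom.mem_ker.mp ha]
      exact p.zero_mem
    · obtain ⟨b, hb, c, hc, rfl⟩ := Submodule.mem_sup.mp (mem_sup_of_mem ε p ha)
      rw [Ideal.mem_comap, map_add]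
      refine add_mem ?_ (Ideal.subset_span ⟨c, hc, rfl⟩)
      have : π (algebraMap A O b) = 0 := Ideal.Quotient.eq_zero_iff_mem.mpr (hJ ▸ Ideal.mem_map_of_mem _ hb)
      rw [RingHom.comp_apply, this]
      exact zero_mem _
  obtain ⟨s, hsT, hcard, hspan⟩ := @exists_finset_span (O ⧸ J) _ hreg T hT d hdim
  have hch : ∀ v : (s : Set (O ⧸ J)), ∃ a ∈ RingHom.ker ε, π (algebraMap A O a) = v.1 := fun v => hsT v.2
  choose x hx hxv using hch
  refine ⟨(s : Set (O ⧸ J)), inferInstance, x, le_of_eq_of_le (Fintype.card_coe s) hcard,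
    fun i => RingHom.mem_ker.mp (hx i), ?_⟩
  let K : Ideal O := (p.map (algebraMap R A) ⊔ Ideal.span (Set.range x)).map (algebraMap A O)
  have hJK : J ≤ K := hJ ▸ Ideal.map_mono le_sup_left
  have hK : K.map π = (maximalIdeal O).map π := by
    rw [← hmax, ← hspan]
    refine le_antisymm ?_ (Ideal.span_le.mpr fun v hv => ?_)
    · rw [hspan, hmax, ← Localization.AtPrime.map_eq_maximalIdeal]
      refine Ideal.map_mono (Ideal.map_mono (sup_le ?_ (Ideal.span_le.mpr ?_)))
      · exact Ideal.map_le_iff_le_comap.mpr fun r hr => by simpa [P, Ideal.mem_comap] using hr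
      · rintro _ ⟨i, rfl⟩
        show ε (x i) ∈ p
        rw [RingHom.mem_ker.mp (hx i)]
        exact p.zero_mem
    · rw [show v = π (algebraMap A O (x ⟨v, hv⟩)) from (hxv ⟨v, hv⟩).symm]
      exact Ideal.mem_map_of_mem _ (Ideal.mem_map_of_mem _
        (Ideal.mem_sup_right (Ideal.subset_span ⟨_, rfl⟩)))
  have h := congrArg (Ideal.comap π) hK
  rw [Ideal.comap_map_of_surjective π Ideal.Quotient.mk_surjective,
    Ideal.comap_map_of_surjective π Ideal.Quotient.mk_surjective, ← RingHom.ker_eq_comap_bot,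
    Ideal.mk_ker, sup_eq_left.mpr hJK, sup_eq_left.mpr] at h
  · exact h
  · rw [hJ, ← Localization.AtPrime.map_eq_maximalIdeal]
    exact Ideal.map_mono (Ideal.map_le_iff_le_comap.mpr fun r hr => by simpa [P, Ideal.mem_comap] using hr)

variable {ι : Type u} (x : ι → A) (hx : ∀ i, ε (x i) = 0)

include hx in
lemma apply_aeval (h : MvPolynomial ι R) : ε (MvPolynomial.aeval x h) = MvPolynomial.constantCoeff h := by
  induction h using MvPolynomial.induction_on with
  | C r => simp
  | add a b ha hb => simp [ha, hb]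
  | mul_X a i ha => simp [hx]

omit [Algebra R A] [p.IsPrime] in
lemma sub_C_mem (h : MvPolynomial ι R) :
    h - MvPolynomial.C (MvPolynomial.constantCoeff h) ∈ Ideal.span (Set.range MvPolynomial.X) := by
  induction h using MvPolynomial.induction_on with
  | C r => simp
  | add a b ha hb =>
    have : a + b - MvPolynomial.C (MvPolynomial.constantCoeff (a + b)) =
        (a - MvPolynomial.C (MvPolynomial.constantCoeff a)) +
          (b - MvPolynomial.C (MvPolynomial.constantCoeff b)) := by
      rw [map_add, map_add]; ring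
    rw [this]
    exact add_mem ha hb
  | mul_X a i ha =>
    have : a * MvPolynomial.X i - MvPolynomial.C (MvPolynomial.constantCoeff (a * MvPolynomial.X i)) =
        a * MvPolynomial.X i := by simp
    rw [this]
    exact Ideal.mul_mem_left _ _ (Ideal.subset_span ⟨i, rfl⟩)

include hx in
/-- The polynomial coordinates make `A` unramified at the point of the section. -/
lemma isUnramifiedAt [Algebra.FiniteType R A]
    (hgen : (p.map (algebraMap R A) ⊔ Ideal.span (Set.range x)).map (algebraMap A (Localization.AtPrime (p.comap ε))) =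
        maximalIdeal (Localization.AtPrime (p.comap ε))) :
    letI : Algebra (MvPolynomial ι R) A := (MvPolynomial.aeval x).toRingHom.toAlgebra
    Algebra.IsUnramifiedAt (MvPolynomial ι R) (p.comap ε) := by
  let B := MvPolynomial ι R
  let : Algebra B A := (MvPolynomial.aeval x).toRingHom.toAlgebra
  have : IsScalarTower R B A := IsScalarTower.of_algebraMap_eq fun r => ((MvPolynomial.aeval x).commutes r).symm
  have : Algebra.FiniteType B A := Algebra.FiniteType.of_restrictScalars_finiteType R B A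
  let P := p.comap ε
  let := Localization.AtPrime.algebraOfLiesOver (P.under B) P
  rw [Algebra.isUnramifiedAt_iff_map_eq B (P.under B) P]
  refine ⟨?_, le_antisymm ?_ ?_⟩
  · have hs : Function.Surjective (algebraMap (P.under B).ResidueField P.ResidueField) := by
      intro z
      obtain ⟨a, b, -, rfl⟩ := IsFractionRing.div_surjective (A ⧸ P) z
      obtain ⟨a, rfl⟩ := Ideal.Quotient.mk_surjective a
      obtain ⟨b, rfl⟩ := Ideal.Quotient.mk_surjective b
      have key : ∀ c : A, algebraMap (A ⧸ P) P.ResidueField (Ideal.Quotient.mk P c) =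
          algebraMap (P.under B).ResidueField P.ResidueField
            (algebraMap B (P.under B).ResidueField (MvPolynomial.C (ε c))) := by
        intro c
        rw [← IsScalarTower.algebraMap_apply, IsScalarTower.algebraMap_apply B A P.ResidueField,
          IsScalarTower.algebraMap_apply A (A ⧸ P) P.ResidueField, Ideal.Quotient.algebraMap_eq]
        congr 1
        refine Ideal.Quotient.eq.mpr ?_
        show ε (c - MvPolynomial.aeval x (MvPolynomial.C (ε c))) ∈ p
        simp
      exact ⟨_ / _, by rw [map_div₀, key, key]⟩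
    have e : (P.under B).ResidueField ≃ₐ[(P.under B).ResidueField] P.ResidueField :=
      AlgEquiv.ofBijective (Algebra.ofId _ _) ⟨RingHom.injective _, hs⟩
    exact AlgEquiv.Algebra.isSeparable e
  · rw [← Localization.AtPrime.map_eq_maximalIdeal]
    refine Ideal.map_le_iff_le_comap.mpr fun h hh => ?_
    rw [Ideal.mem_comap, IsScalarTower.algebraMap_apply B A (Localization.AtPrime P)]
    exact Ideal.mem_map_of_mem _ hh
  · rw [← hgen, Ideal.map_le_iff_le_comap]
    refine sup_le (Ideal.map_le_iff_le_comap.mpr fun r hr => ?_) (Ideal.span_le.mpr ?_)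
    · rw [Ideal.mem_comap, Ideal.mem_comap,
        show algebraMap R A r = algebraMap B A (MvPolynomial.C r) from
          ((MvPolynomial.aeval x).commutes r).symm, ← IsScalarTower.algebraMap_apply]
      refine Ideal.mem_map_of_mem _ ?_
      show ε (MvPolynomial.aeval x (MvPolynomial.C r)) ∈ p
      simpa using hr
    · rintro _ ⟨i, rfl⟩
      rw [SetLike.mem_coe, Ideal.mem_comap,
        show x i = algebraMap B A (MvPolynomial.X i) from (MvPolynomial.aeval_X x i).symm,
        ← IsScalarTower.algebraMap_apply]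
      refine Ideal.mem_map_of_mem _ ?_
      show ε (MvPolynomial.aeval x (MvPolynomial.X i)) ∈ p
      simp [hx]

end Coordinates

/-- Bound on the fibre dimension of an etale algebra over polynomial coordinates at a point where all
coordinates vanish. -/
lemma ringKrullDim_fiberStalk_le {R E : Type u} [CommRing R] [CommRing E] {ι : Type u} [Fintype ι]
    [Algebra (MvPolynomial ι R) E] [Algebra R E] [IsScalarTower R (MvPolynomial ι R) E]
    [Algebra.Unramified (MvPolynomial ι R) E] [Algebra.FiniteType R E]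
    (w : PrimeSpectrum E) (hw : ∀ i, algebraMap (MvPolynomial ι R) E (MvPolynomial.X i) ∈ w.asIdeal) :
    ringKrullDim (CInt.fiberStalk (Spec.map (CommRingCat.ofHom (algebraMap R E))) w) ≤ Fintype.card ι := by
  let B := MvPolynomial ι R
  let Q := w.asIdeal
  let O := Localization.AtPrime Q
  let J : Ideal O := (Q.comap (algebraMap R E)).map ((algebraMap E O).comp (algebraMap R E))
  obtain ⟨e₁⟩ := FlatMor.FibreStalk.exists_fibre_stalk_equiv (Spec.map (CommRingCat.ofHom (algebraMap R E))) w
  obtain ⟨e₂⟩ := exists_quotient_equiv_Spec (CommRingCat.ofHom (algebraMap R E)) w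
  let e : CInt.fiberStalk (Spec.map (CommRingCat.ofHom (algebraMap R E))) w ≃+* O ⧸ J := e₁.symm.trans e₂
  have : LocallyOfFiniteType (Spec.map (CommRingCat.ofHom (algebraMap R E))) := by
    rw [HasRingHomProperty.Spec_iff (P := @LocallyOfFiniteType), CommRingCat.hom_ofHom]
    exact RingHom.finiteType_algebraMap.mpr ‹_›
  have hN := isNoetherianRing_fiberStalk (Spec.map (CommRingCat.ofHom (algebraMap R E))) w
  have : IsNoetherianRing (O ⧸ J) := isNoetherianRing_of_ringEquiv _ e
  have : Nontrivial (O ⧸ J) := Ideal.Quotient.nontrivial_iff.mpr <| by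
    refine ne_top_of_le_ne_top (maximalIdeal.isMaximal O).ne_top (Ideal.map_le_iff_le_comap.mpr fun r hr => ?_)
    rw [Ideal.mem_comap, RingHom.comp_apply, ← Localization.AtPrime.map_eq_maximalIdeal]
    exact Ideal.mem_map_of_mem _ hr
  rw [ringKrullDim_eq_of_ringEquiv e]
  have : IsLocalRing (O ⧸ J) := .of_surjective' (Ideal.Quotient.mk J) Ideal.Quotient.mk_surjective
  let := Localization.AtPrime.algebraOfLiesOver (Q.under B) Q
  have hmax : maximalIdeal (O ⧸ J) =
      Ideal.span (Set.range fun i => Ideal.Quotient.mk J (algebraMap B O (MvPolynomial.X i))) := by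
    rw [← map_maximalIdeal_of_surjective (Ideal.Quotient.mk J) Ideal.Quotient.mk_surjective,
      ← ((Algebra.isUnramifiedAt_iff_map_eq B (Q.under B) Q).mp inferInstance).2, Ideal.map_map]
    refine le_antisymm (Ideal.map_le_iff_le_comap.mpr fun h hh => ?_) (Ideal.span_le.mpr ?_)
    · rw [Ideal.mem_comap]
      have hsub : h - MvPolynomial.C (MvPolynomial.constantCoeff h) ∈ Ideal.span (Set.range MvPolynomial.X) :=
        sub_C_mem h
      have hle : (Ideal.span (Set.range MvPolynomial.X) : Ideal B) ≤ Q.under B :=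
        Ideal.span_le.mpr (by rintro _ ⟨i, rfl⟩; exact hw i)
      have hC : MvPolynomial.C (MvPolynomial.constantCoeff h) ∈ Q.under B := by
        have := (Q.under B).sub_mem hh (hle hsub)
        rwa [sub_sub_cancel] at this
      have h0 : Ideal.Quotient.mk J (algebraMap B O (MvPolynomial.C (MvPolynomial.constantCoeff h))) = 0 := by
        refine Ideal.Quotient.eq_zero_iff_mem.mpr ?_
        rw [← MvPolynomial.algebraMap_eq, ← IsScalarTower.algebraMap_apply R B O,
          IsScalarTower.algebraMap_apply R E O]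
        refine Ideal.mem_map_of_mem ((algebraMap E O).comp (algebraMap R E)) ?_
        show algebraMap R E _ ∈ Q
        rw [IsScalarTower.algebraMap_apply R B E]
        exact hC
      have h1 : (Ideal.Quotient.mk J).comp (algebraMap B O) h =
          (Ideal.Quotient.mk J).comp (algebraMap B O) (h - MvPolynomial.C (MvPolynomial.constantCoeff h)) := by
        rw [map_sub, RingHom.comp_apply, RingHom.comp_apply, h0, sub_zero]
      rw [h1]
      have := Ideal.mem_map_of_mem ((Ideal.Quotient.mk J).comp (algebraMap B O)) hsub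
      rw [Ideal.map_span, ← Set.range_comp] at this
      exact this
    · rintro _ ⟨i, rfl⟩
      exact Ideal.mem_map_of_mem ((Ideal.Quotient.mk J).comp (algebraMap B O)) (hw i)
  refine (ringKrullDim_le_spanFinrank_maximalIdeal _).trans (Nat.cast_le.mpr ?_)
  rw [hmax]
  refine (Submodule.spanFinrank_span_le_ncard_of_finite (Set.finite_range _)).trans ?_
  rw [← Nat.card_coe_set_eq, ← Nat.card_eq_fintype_card]
  exact Finite.card_range_le _

/-- Smoothness near a section over a reduced base, for an affine algebra. -/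
theorem exists_smooth_nhd_Spec {R A : Type u} [CommRing R] [CommRing A] [_root_.IsReduced R] [Algebra R A]
    [Algebra.FiniteType R A] (ε : A →ₐ[R] R) (s : PrimeSpectrum R) (d : ℕ)
    (hreg : IsRegularLocalRing
      (CInt.fiberStalk (Spec.map (CommRingCat.ofHom (algebraMap R A))) (Spec.map (CommRingCat.ofHom ε.toRingHom) s)))
    (hdim : ringKrullDim
      (CInt.fiberStalk (Spec.map (CommRingCat.ofHom (algebraMap R A))) (Spec.map (CommRingCat.ofHom ε.toRingHom) s)) = d)
    (hnear : ∃ V : (Spec (CommRingCat.of R)).Opens, s ∈ V ∧ ∀ t ∈ V, (d : WithBot ℕ∞) ≤ ringKrullDim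
      (CInt.fiberStalk (Spec.map (CommRingCat.ofHom (algebraMap R A))) (Spec.map (CommRingCat.ofHom ε.toRingHom) t))) :
    ∃ W : (Spec (CommRingCat.of A)).Opens, Spec.map (CommRingCat.ofHom ε.toRingHom) s ∈ W ∧
      Smooth (W.ι ≫ Spec.map (CommRingCat.ofHom (algebraMap R A))) := by
  classical
  let fA : Spec (CommRingCat.of A) ⟶ Spec (CommRingCat.of R) := Spec.map (CommRingCat.ofHom (algebraMap R A))
  let σA : Spec (CommRingCat.of R) ⟶ Spec (CommRingCat.of A) := Spec.map (CommRingCat.ofHom ε.toRingHom)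
  obtain ⟨e₁⟩ := FlatMor.FibreStalk.exists_fibre_stalk_equiv fA (σA s)
  obtain ⟨e₂⟩ := exists_quotient_equiv_Spec (CommRingCat.ofHom (algebraMap R A)) (σA s)
  have hreg' := @IsRegularLocalRing.of_ringEquiv _ _ hreg _ _ (e₁.symm.trans e₂)
  have hdim' := (ringKrullDim_eq_of_ringEquiv (e₁.symm.trans e₂)).symm.trans hdim
  obtain ⟨ι, _, x, hcard, hx, hgen⟩ := exists_coordinates ε s.asIdeal hreg' hdim'
  let B := MvPolynomial ι R
  let : Algebra B A := (MvPolynomial.aeval x).toRingHom.toAlgebra
  have : IsScalarTower R B A := IsScalarTower.of_algebraMap_eq fun r => ((MvPolynomial.aeval x).commutes r).symm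
  have : Algebra.FiniteType B A := Algebra.FiniteType.of_restrictScalars_finiteType R B A
  have : Algebra.IsUnramifiedAt B (s.asIdeal.comap ε) := isUnramifiedAt ε s.asIdeal x hx hgen
  obtain ⟨f, hf, Pr, π, hπ⟩ :=
    Algebra.IsUnramifiedAt.exists_hasStandardEtaleSurjectionOn (R := B) (s.asIdeal.comap ε)
  let : Algebra R Pr.Ring := ((algebraMap B Pr.Ring).comp (algebraMap R B)).toAlgebra
  have : IsScalarTower R B Pr.Ring := IsScalarTower.of_algebraMap_eq' rfl
  have : Algebra.Etale B Pr.Ring := inferInstance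
  have : Algebra.Smooth R B := ⟨inferInstance, inferInstance⟩
  have : Algebra.Smooth R Pr.Ring := Algebra.Smooth.comp R B Pr.Ring
  let Af := Localization.Away f
  let κA : Spec (CommRingCat.of Af) ⟶ Spec (CommRingCat.of A) := Spec.map (CommRingCat.ofHom (algebraMap A Af))
  have : IsOpenImmersion κA := IsOpenImmersion.of_isLocalization f
  let jE : Spec (CommRingCat.of Af) ⟶ Spec (CommRingCat.of Pr.Ring) := Spec.map (CommRingCat.ofHom π.toRingHom)
  have : IsClosedImmersion jE := IsClosedImmersion.spec_of_surjective _ hπ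
  let fE : Spec (CommRingCat.of Pr.Ring) ⟶ Spec (CommRingCat.of R) := Spec.map (CommRingCat.ofHom (algebraMap R Pr.Ring))
  have : Smooth fE := by
    rw [HasRingHomProperty.Spec_iff (P := @Smooth), CommRingCat.hom_ofHom]
    exact RingHom.smooth_algebraMap.mpr ‹_›
  have hjf : jE ≫ fE = κA ≫ fA := by
    show Spec.map _ ≫ Spec.map _ = Spec.map _ ≫ Spec.map _
    rw [← Spec.map_comp, ← Spec.map_comp, ← CommRingCat.ofHom_comp, ← CommRingCat.ofHom_comp]
    congr 2
    ext r
    show π (algebraMap B Pr.Ring (algebraMap R B r)) = algebraMap A Af (algebraMap R A r)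
    rw [AlgHom.commutes, IsScalarTower.algebraMap_apply B A Af, ← IsScalarTower.algebraMap_apply R B A]
  have hσf : σA ≫ fA = 𝟙 _ := by
    show Spec.map _ ≫ Spec.map _ = _
    rw [← Spec.map_comp, ← Spec.map_id, ← CommRingCat.ofHom_comp]
    congr 1
    ext r
    exact ε.commutes r
  obtain ⟨Vd, hsVd, hVd⟩ := hnear
  obtain ⟨V, hV, hsV, hVle⟩ := exists_isAffineOpen_mem_and_subset (x := s)
    (U := Vd ⊓ σA ⁻¹ᵁ κA.opensRange) ⟨hsVd, by
      show σA s ∈ Set.range κA
      rw [show Set.range κA = (PrimeSpectrum.basicOpen f : Set (PrimeSpectrum A)) from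
        PrimeSpectrum.localization_away_comap_range Af f]
      exact hf⟩
  let Y₀ : (Spec (CommRingCat.of Pr.Ring)).Opens := fE ⁻¹ᵁ V
  let X₀ : (Spec (CommRingCat.of Af)).Opens := jE ⁻¹ᵁ Y₀
  have hr : Set.range (V.ι ≫ σA) ⊆ Set.range κA := by
    rintro _ ⟨t, rfl⟩
    exact (hVle t.2).2
  let σ₁ := IsOpenImmersion.lift κA (V.ι ≫ σA) hr
  have hσ₁ : σ₁ ≫ κA = V.ι ≫ σA := IsOpenImmersion.lift_fac _ _ hr
  have hσ₁f : σ₁ ≫ jE ≫ fE = V.ι := by
    rw [hjf, reassoc_of% hσ₁, hσf, Category.comp_id]
  have hr₀ : Set.range σ₁ ⊆ Set.range X₀.ι := by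
    rw [Scheme.Opens.range_ι]
    rintro _ ⟨t, rfl⟩
    show fE (jE (σ₁ t)) ∈ V
    rw [← Scheme.Hom.comp_apply, ← Scheme.Hom.comp_apply, hσ₁f]
    exact t.2
  let σ : (V : Scheme.{u}) ⟶ X₀ := IsOpenImmersion.lift X₀.ι σ₁ hr₀
  have hσ : σ ≫ X₀.ι = σ₁ := IsOpenImmersion.lift_fac _ _ hr₀
  have : IsClosedImmersion (jE ∣_ Y₀) :=
    MorphismProperty.of_isPullback (isPullback_morphismRestrict jE Y₀).flip ‹_›
  have : Smooth (fE ∣_ V) := MorphismProperty.of_isPullback (isPullback_morphismRestrict fE V).flip ‹_›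
  have : IsAffine (V : Scheme.{u}) := hV
  have : IsAffine (Y₀ : Scheme.{u}) := hV.preimage fE
  have hid : σ ≫ (jE ∣_ Y₀) ≫ (fE ∣_ V) = 𝟙 _ := by
    rw [← cancel_mono V.ι, Category.assoc, Category.assoc, morphismRestrict_ι, Category.id_comp,
      morphismRestrict_ι_assoc, reassoc_of% hσ, hσ₁f]
  have hκ : IsOpenImmersion (X₀.ι ≫ κA) := inferInstance
  have hκσ : ∀ t : (V : Scheme.{u}), (X₀.ι ≫ κA) (σ t) = σA t.1 := fun t => by
    rw [← Scheme.Hom.comp_apply, reassoc_of% hσ, hσ₁]; rfl
  have hfκ : ∀ z : (X₀ : Scheme.{u}), ((fE ∣_ V) ((jE ∣_ Y₀) z)).1 = fA ((X₀.ι ≫ κA) z) := fun z => by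
    show V.ι ((fE ∣_ V) ((jE ∣_ Y₀) z)) = _
    rw [← Scheme.Hom.comp_apply, ← Scheme.Hom.comp_apply, morphismRestrict_ι, morphismRestrict_ι_assoc,
      ← Scheme.Hom.comp_apply, Category.assoc, hjf]
  obtain ⟨W, hW, hWs⟩ := exists_smooth_nhd (fE ∣_ V) (jE ∣_ Y₀) σ hid fun t => by
    refine ⟨d, ?_, ?_⟩
    · obtain ⟨l, hl0, hld, hlt⟩ := exists_chain fA (σA t.1) (hVd t.1 (hVle t.2).1)
      obtain ⟨l', hl'0, hl'd, hl't⟩ := exists_lift_chain (X₀.ι ≫ κA) (σ t) l (hl0.trans (hκσ t).symm)
      refine ⟨l', hl'0, hl'd.trans hld, fun i => Subtype.ext ?_⟩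
      obtain ⟨k, hk⟩ := hl't i
      rw [hfκ, hk, hlt k, ← Scheme.Hom.comp_apply, hσf]
      rfl
    · intro l hl0 hlt
      have hm : StrictMono (fun y : (Y₀ : Scheme.{u}) => Y₀.ι y) := fun a c hac => by
        obtain ⟨h1, h2⟩ := lt_iff_le_not_ge.mp hac
        exact lt_iff_le_not_ge.mpr ⟨Scheme.le_iff_specializes.mpr
          ((Scheme.le_iff_specializes.mp h1).map Y₀.ι.continuous), fun h => h2
            (Scheme.le_iff_specializes.mpr (Y₀.ι.isOpenEmbedding.isInducing.specializes_iff.mp
              (Scheme.le_iff_specializes.mp h)))⟩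
      have hft : ∀ y : (Y₀ : Scheme.{u}), fE (Y₀.ι y) = ((fE ∣_ V) y).1 := fun y => by
        show _ = V.ι ((fE ∣_ V) y)
        rw [← Scheme.Hom.comp_apply, ← Scheme.Hom.comp_apply, morphismRestrict_ι]
      have hlen := length_le fE (l.map _ hm) (fun i => by
        show fE (Y₀.ι (l i)) = fE (Y₀.ι (l 0))
        rw [hft, hft]
        exact congrArg Subtype.val ((hlt i).trans (hlt 0).symm))
      have hw : (l.map _ hm).head = jE (σ₁ t) := by
        rw [LTSeries.head_map, hl0, ← Scheme.Hom.comp_apply, morphismRestrict_ι, ← Scheme.Hom.comp_apply,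
          ← Category.assoc, ← Scheme.Hom.comp_apply, hσ]
      rw [hw] at hlen
      have hXi : ∀ i, algebraMap B Pr.Ring (MvPolynomial.X i) ∈ PrimeSpectrum.asIdeal (R := Pr.Ring) (jE (σ₁ t)) := by
        intro i
        show π (algebraMap B Pr.Ring (MvPolynomial.X i)) ∈ PrimeSpectrum.asIdeal (R := Af) (σ₁ t)
        rw [AlgHom.commutes, IsScalarTower.algebraMap_apply B A Af]
        show algebraMap B A (MvPolynomial.X i) ∈ PrimeSpectrum.asIdeal (R := A) (κA (σ₁ t))
        rw [← Scheme.Hom.comp_apply, hσ₁]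
        show ε (MvPolynomial.aeval x (MvPolynomial.X i)) ∈ PrimeSpectrum.asIdeal (R := R) t.1
        simp [hx]
      have := hlen.trans ((ringKrullDim_fiberStalk_le (jE (σ₁ t)) hXi).trans (Nat.cast_le.mpr hcard))
      exact Nat.cast_le.mp this
  refine ⟨(X₀.ι ≫ κA) ''ᵁ W, ⟨σ ⟨s, hsV⟩, hW _, hκσ _⟩, ?_⟩
  have hsm : Smooth ((W.ι ≫ (jE ∣_ Y₀) ≫ (fE ∣_ V)) ≫ V.ι) := inferInstance
  have he : (W.ι ≫ (jE ∣_ Y₀) ≫ (fE ∣_ V)) ≫ V.ι =
      ((X₀.ι ≫ κA).isoImage W).hom ≫ ((X₀.ι ≫ κA) ''ᵁ W).ι ≫ fA := by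
    rw [Scheme.Hom.isoImage_hom_ι_assoc, Category.assoc, Category.assoc, morphismRestrict_ι,
      morphismRestrict_ι_assoc, hjf, Category.assoc]
  rw [he] at hsm
  have : Smooth (((X₀.ι ≫ κA).isoImage W).inv ≫ ((X₀.ι ≫ κA).isoImage W).hom ≫ ((X₀.ι ≫ κA) ''ᵁ W).ι ≫ fA) :=
    inferInstance
  rwa [Iso.inv_hom_id_assoc] at this

end Groth.Agent.SecSmooth27
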